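import Cfsg.Agent.Lib.Known.RootLift.Bruhat
import Cfsg.Prelude.Def_KGroupFacts

/-!
# Stem extensions: coprime kernel, transfer to a Sylow subgroup, reduction to primary parts
-/

set_option autoImplicit false
set_option linter.unusedSectionVars false

namespace CfsgLib.Known.RootLift

open scoped commutatorElement

section Self

variable {G : Type*} [Group G] [Finite G] {p : ℕ}

theorem coprimeExt_id (hp : p.Prime) : CoprimeExt (MonoidHom.id G) p where
  surj := Function.surjective_id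
  central := by rw [MonoidHom.ker_id]; exact bot_le
  prime := hp
  cop := by rw [MonoidHom.ker_id, Subgroup.card_bot]; exact Nat.coprime_one_right p

theorem L_id (hp : p.Prime) {g : G} (hg : IsPElt p g) : (coprimeExt_id hp).L g = g :=
  ((coprimeExt_id hp).eq_L hg rfl (pow_orderOf_eq_one g)).symm

end Self

namespace Sys

variable {Γ G F : Type*} [Group Γ] [Group G] [Finite Γ] [Field F] [Finite F] {ι κ : Type*} [Fintype κ]
  {π : Γ →* G} {p : ℕ} (S : Sys G F p ι κ) [CharP F p]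

/-- Weyl elements of the group itself -/
def WeylGp : Subgroup G :=
  Subgroup.closure {g | ∃ k c, c ≠ 0 ∧ g = S.R (S.sim k) c * S.N (S.sim k) (-c⁻¹) * S.R (S.sim k) c}

theorem lift_gen (hU : IsPGroup p S.U) (H : CoprimeExt π p) (hgen : S.U ⊔ S.WeylGp = ⊤) :
    (S.UU hU H ⊔ S.NN H).map π = ⊤ := by
  refine top_le_iff.1 (hgen ▸ sup_le ?_ ((Subgroup.closure_le _).2 ?_))
  · exact fun g hg => ⟨H.L g, Subgroup.mem_sup_left (H.L_mem_lift hU hg), H.π_L (isPElt_of_mem hU hg)⟩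
  · rintro _ ⟨k, c, hc, rfl⟩
    exact ⟨_, Subgroup.mem_sup_right (S.nn_mem H k hc), S.π_nn H k c⟩

/-- a stem extension with kernel prime to `p` is trivial -/
theorem ker_eq_bot_of_coprime (hU : IsPGroup p S.U) (hp : p.Prime) (hgen : S.U ⊔ S.WeylGp = ⊤) (hT : S.TorusFree)
    (hσ : Cfsg.IsStemExtension π) (hcop : p.Coprime (Nat.card π.ker)) : π.ker = ⊥ := by
  obtain ⟨hs, hc, hd⟩ := hσ
  have H : CoprimeExt π p := ⟨hs, hc, hp, hcop⟩
  obtain ⟨Δ, hΔ⟩ : ∃ Δ, Δ = S.UU hU H ⊔ S.NN H := ⟨_, rfl⟩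
  have hmap : Δ.map π = ⊤ := hΔ ▸ S.lift_gen hU H hgen
  have hcomm : commutator Γ ≤ Δ := by
    rw [commutator_def, Subgroup.commutator_le]
    intro a _ b _
    obtain ⟨a', ha', ea⟩ : π a ∈ Δ.map π := by rw [hmap]; exact Subgroup.mem_top _
    obtain ⟨b', hb', eb⟩ : π b ∈ Δ.map π := by rw [hmap]; exact Subgroup.mem_top _
    have hza : a'⁻¹ * a ∈ Subgroup.center Γ := hc (by rw [MonoidHom.mem_ker, map_mul, map_inv, ea, inv_mul_cancel])
    have hzb : b'⁻¹ * b ∈ Subgroup.center Γ := hc (by rw [MonoidHom.mem_ker, map_mul, map_inv, eb, inv_mul_cancel])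
    obtain ⟨z, hz, rfl⟩ : ∃ z ∈ Subgroup.center Γ, a = a' * z := ⟨_, hza, by group⟩
    obtain ⟨w, hw, rfl⟩ : ∃ w ∈ Subgroup.center Γ, b = b' * w := ⟨_, hzb, by group⟩
    have cz : ∀ g, Commute g z := fun g => Subgroup.mem_center_iff.1 hz g
    have cw : ∀ g, Commute g w := fun g => Subgroup.mem_center_iff.1 hw g
    have e : ⁅a' * z, b' * w⁆ = ⁅a', b'⁆ := by
      simp only [commutatorElement_def, mul_inv_rev]
      calc a' * z * (b' * w) * (z⁻¹ * a'⁻¹) * (w⁻¹ * b'⁻¹)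
          = a' * (z * (b' * w)) * z⁻¹ * a'⁻¹ * w⁻¹ * b'⁻¹ := by group
        _ = a' * ((b' * w) * z) * z⁻¹ * a'⁻¹ * w⁻¹ * b'⁻¹ := by rw [(cz _).eq]
        _ = a' * b' * (w * a'⁻¹) * w⁻¹ * b'⁻¹ := by group
        _ = a' * b' * (a'⁻¹ * w) * w⁻¹ * b'⁻¹ := by rw [(cw _).eq]
        _ = a' * b' * a'⁻¹ * b'⁻¹ := by group
    rw [e, commutatorElement_def]
    exact mul_mem (mul_mem (mul_mem ha' hb') (inv_mem ha')) (inv_mem hb')
  exact (Subgroup.eq_bot_iff_forall _).2 fun z hz =>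
    S.eq_one_of_ker hU H hT (hΔ ▸ hcomm (hd hz)) (MonoidHom.mem_ker.1 hz)

/-- `U` is a Sylow subgroup -/
theorem not_dvd_index [Finite G] (hU : IsPGroup p S.U) (hp : p.Prime) (hgen : S.U ⊔ S.WeylGp = ⊤) : ¬ p ∣ S.U.index := by
  have : Fact p.Prime := ⟨hp⟩
  obtain ⟨P, hUP⟩ := hU.exists_le_sylow
  suffices hPU : (P : Subgroup G) = S.U by
    rw [← hPU]
    exact P.not_dvd_index
  by_contra hne
  have hlt : S.U < (P : Subgroup G) := lt_of_le_of_ne hUP (Ne.symm hne)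
  have hnil : Group.IsNilpotent (P : Subgroup G) := P.isPGroup'.isNilpotent
  obtain ⟨x, hxP, hxn, hxU⟩ : ∃ x ∈ (P : Subgroup G), (∀ y ∈ S.U, x * y * x⁻¹ ∈ S.U) ∧ x ∉ S.U := by
    have h1 := Group.normalizerCondition_of_isNilpotent (G := (P : Subgroup G)) (S.U.subgroupOf P)
      (lt_top_iff_ne_top.2 fun h => hne (le_antisymm (Subgroup.subgroupOf_eq_top.1 h) hUP))
    obtain ⟨x, hx, hx'⟩ := SetLike.exists_of_lt h1
    refine ⟨x, x.2, fun y hy => ?_, fun h => hx' (Subgroup.mem_subgroupOf.2 h)⟩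
    have := (Subgroup.mem_normalizer_iff.1 hx ⟨y, hUP hy⟩).1 (Subgroup.mem_subgroupOf.2 hy)
    exact Subgroup.mem_subgroupOf.1 this
  obtain ⟨H, hH⟩ : ∃ H : CoprimeExt (MonoidHom.id G) p, H = coprimeExt_id hp := ⟨_, rfl⟩
  have hLU : ∀ g ∈ S.U, H.L g = g := fun g hg => hH ▸ L_id hp (isPElt_of_mem hU hg)
  have hxm : x ∈ S.UU hU H ⊔ S.NN H := by
    have := S.lift_gen hU H hgen
    rw [Subgroup.map_id] at this
    rw [this]; exact Subgroup.mem_top _
  obtain ⟨_, ⟨u, hu, rfl⟩, w, hw, _, ⟨u', hu', rfl⟩, rfl⟩ := S.closure_inS hU H hxm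
  rw [hLU u hu, hLU u' hu'] at hxP hxn hxU
  have hwn : ∀ y ∈ S.U, MonoidHom.id G w * y * (MonoidHom.id G w)⁻¹ ∈ S.U := fun y hy => by
    have h := mul_mem (mul_mem (inv_mem hu) (hxn _ (mul_mem (mul_mem (inv_mem hu') hy) hu'))) hu
    convert h using 1
    simp [mul_assoc]
  have hwH := S.mem_HH_of_normalizes H hw hwn
  have hwP : w ∈ (P : Subgroup G) := by
    have := mul_mem (mul_mem (inv_mem (hUP hu)) hxP) (inv_mem (hUP hu'))
    simpa [mul_assoc] using this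
  have hw1 : w = 1 := by
    obtain ⟨e, he⟩ := P.isPGroup' ⟨w, hwP⟩
    have he' : w ^ p ^ e = 1 := congrArg Subtype.val he
    obtain ⟨y, rfl⟩ := hwH
    have h1 : S.tor H y ^ (Nat.card F - 1) = 1 := by
      rw [← map_pow, ← Nat.card_units, show y ^ Nat.card Fˣ = 1 from funext fun k => pow_card_eq_one', map_one]
    have hcop : (p ^ e).Coprime (Nat.card F - 1) := by
      refine Nat.Coprime.pow_left e (hp.coprime_iff_not_dvd.2 fun hd => ?_)
      have : Fintype F := Fintype.ofFinite F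
      obtain ⟨n, -, hn⟩ := FiniteField.card F p
      have hdvd : p ∣ Nat.card F := by rw [Nat.card_eq_fintype_card, hn]; exact dvd_pow_self p n.ne_zero
      have := Nat.dvd_sub hdvd hd
      rw [show Nat.card F - (Nat.card F - 1) = 1 by have := Nat.card_pos (α := F); omega, Nat.dvd_one] at this
      exact hp.one_lt.ne' this
    rw [← orderOf_eq_one_iff, ← Nat.dvd_one, ← hcop.gcd_eq_one]
    exact Nat.dvd_gcd (orderOf_dvd_of_pow_eq_one he') (orderOf_dvd_of_pow_eq_one h1)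
  subst hw1
  rw [mul_one] at hxU
  exact hxU (mul_mem hu hu')

end Sys

/-- a complement of a central `p`-subgroup over a Sylow subgroup kills it in a stem extension -/
theorem ker_eq_bot_of_complement {Γ G : Type*} [Group Γ] [Group G] [Finite Γ] {π : Γ →* G} {p : ℕ}
    (hp : p.Prime) (hσ : Cfsg.IsStemExtension π) (hZ : IsPGroup p π.ker) {U : Subgroup G}
    (hU : ¬ p ∣ U.index) {M : Subgroup Γ} (hM : M.map π = U) (hMZ : ∀ x ∈ M, π x = 1 → x = 1) : π.ker = ⊥ := by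
  obtain ⟨hs, hc, hd⟩ := hσ
  have hcm : ∀ a b : π.ker, a * b = b * a := fun a b => Subtype.ext (Subgroup.mem_center_iff.1 (hc b.2) a)
  let : CommGroup π.ker := { (inferInstance : Group π.ker) with mul_comm := hcm }
  let H : Subgroup Γ := U.comap π
  have key : ∀ x : H, ∃! z : π.ker, (x : Γ) * (z : Γ)⁻¹ ∈ M := fun x => by
    obtain ⟨m, hm, e⟩ : π (x : Γ) ∈ M.map π := by rw [hM]; exact x.2
    refine ⟨⟨m⁻¹ * x, by rw [MonoidHom.mem_ker, map_mul, map_inv, e, inv_mul_cancel]⟩, ?_, ?_⟩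
    · show (x : Γ) * (m⁻¹ * x)⁻¹ ∈ M
      rwa [mul_inv_rev, inv_inv, mul_inv_cancel_left]
    · intro z hz
      refine Subtype.ext ?_
      have h1 : m⁻¹ * ((x : Γ) * (z : Γ)⁻¹) = 1 := hMZ _ (mul_mem (inv_mem hm) hz) (by
        rw [map_mul, map_mul, map_inv, map_inv, MonoidHom.mem_ker.1 z.2, e, inv_one, mul_one, inv_mul_cancel])
      show (z : Γ) = m⁻¹ * x
      calc (z : Γ) = m⁻¹ * ((x : Γ) * (z : Γ)⁻¹) * z := by rw [h1, one_mul]
        _ = _ := by group
  let φ : H →* π.ker := MonoidHom.mk' (fun x => (key x).choose) fun x y => by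
    refine ((key (x * y)).choose_spec.2 _ ?_).symm
    have h := mul_mem (key x).choose_spec.1 (key y).choose_spec.1
    have hzc := Subgroup.mem_center_iff.1 (hc (key x).choose.2)
    show ((x : Γ) * y) * (((key x).choose : Γ) * (key y).choose)⁻¹ ∈ M
    rw [show ((x : Γ) * y) * (((key x).choose : Γ) * (key y).choose)⁻¹ =
      (x : Γ) * ((key x).choose : Γ)⁻¹ * ((y : Γ) * ((key y).choose : Γ)⁻¹) by
        have hzc' : ∀ g, g * ((key x).choose : Γ)⁻¹ = ((key x).choose : Γ)⁻¹ * g :=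
          Subgroup.mem_center_iff.1 (inv_mem (hc (key x).choose.2))
        rw [mul_inv_rev, mul_assoc (x : Γ) _ ((y : Γ) * _)]
        rw [← hzc' ((y : Γ) * _)]
        group]
    exact h
  have hidx : H.index = U.index := Subgroup.index_comap_of_surjective U hs
  refine (Subgroup.eq_bot_iff_forall _).2 fun z hz => ?_
  have hzH : z ∈ H := by show π z ∈ U; rw [MonoidHom.mem_ker.1 hz]; exact one_mem _
  have hzc : ∀ g, g * z = z * g := Subgroup.mem_center_iff.1 (hc hz)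
  have hkey : ∀ (k : ℕ) (g₀ : Γ), g₀⁻¹ * z ^ k * g₀ ∈ H → g₀⁻¹ * z ^ k * g₀ = z ^ k := fun k g₀ _ => by
    rw [mul_assoc, ← (Commute.pow_right (hzc g₀) k).eq, inv_mul_cancel_left]
  have h1 := MonoidHom.transfer_eq_pow φ z hkey
  have h0 : MonoidHom.transfer φ z = 1 :=
    MonoidHom.mem_ker.1 (Abelianization.commutator_subset_ker _ (hd hz))
  have h2 : φ ⟨z ^ H.index, MonoidHom.transfer_eq_pow_aux z hkey⟩ = (⟨z, hz⟩ : π.ker) ^ H.index := by
    refine ((key _).choose_spec.2 _ ?_).symm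
    simp only [SubgroupClass.coe_pow, mul_inv_cancel, one_mem]
  rw [h0, h2] at h1
  have hcop : (orderOf (⟨z, hz⟩ : π.ker)).Coprime H.index := by
    obtain ⟨e, he⟩ := hZ ⟨z, hz⟩
    obtain ⟨k, -, hk⟩ := (Nat.dvd_prime_pow hp).1 (orderOf_dvd_of_pow_eq_one he)
    rw [hk, hidx]
    exact (hp.coprime_iff_not_dvd.2 hU).pow_left k
  have h3 : orderOf (⟨z, hz⟩ : π.ker) = 1 := by
    rw [← Nat.dvd_one, ← hcop.gcd_eq_one]
    exact Nat.dvd_gcd dvd_rfl (orderOf_dvd_of_pow_eq_one h1.symm)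
  exact congrArg Subtype.val (orderOf_eq_one_iff.1 h3)

universe u v

/-- it suffices to treat kernels prime to `p` and `p`-kernels -/
theorem ker_eq_bot_of_parts {G : Type u} [Group G] (p : ℕ) [hp : Fact p.Prime]
    (h1 : ∀ (Γ : Type v) [Group Γ] [Finite Γ] (π : Γ →* G), Cfsg.IsStemExtension π →
      p.Coprime (Nat.card π.ker) → π.ker = ⊥)
    (h2 : ∀ (Γ : Type v) [Group Γ] [Finite Γ] (π : Γ →* G), Cfsg.IsStemExtension π →
      IsPGroup p π.ker → π.ker = ⊥)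
    {Γ : Type v} [Group Γ] [Finite Γ] (π : Γ →* G) (hσ : Cfsg.IsStemExtension π) : π.ker = ⊥ := by
  obtain ⟨hs, hc, hd⟩ := hσ
  obtain ⟨P⟩ : Nonempty (Sylow p π.ker) := inferInstance
  refine h2 Γ π ⟨hs, hc, hd⟩ ?_
  obtain ⟨Q, hQ⟩ : ∃ Q : Subgroup Γ, Q = (P : Subgroup π.ker).map π.ker.subtype := ⟨_, rfl⟩
  have hQk : Q ≤ π.ker := hQ ▸ Subgroup.map_subtype_le _
  have : Q.Normal := ⟨fun x hx g => by
    rwa [Subgroup.mem_center_iff.1 (hc (hQk hx)) g, mul_inv_cancel_right]⟩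
  obtain ⟨σ, hσ⟩ : ∃ σ : Γ ⧸ Q →* G, ∀ g, σ (QuotientGroup.mk' Q g) = π g :=
    ⟨QuotientGroup.lift Q π hQk, fun g => rfl⟩
  have hker : ∀ g, QuotientGroup.mk' Q g ∈ σ.ker ↔ g ∈ π.ker := fun g => by
    rw [MonoidHom.mem_ker, hσ, MonoidHom.mem_ker]
  have hst : Cfsg.IsStemExtension σ := by
    refine ⟨fun x => ?_, fun x hx => ?_, fun x hx => ?_⟩
    · obtain ⟨g, rfl⟩ := hs x; exact ⟨_, hσ g⟩
    · obtain ⟨g, rfl⟩ := QuotientGroup.mk'_surjective Q x
      rw [Subgroup.mem_center_iff]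
      intro y
      obtain ⟨h, rfl⟩ := QuotientGroup.mk'_surjective Q y
      rw [← map_mul, ← map_mul, Subgroup.mem_center_iff.1 (hc ((hker g).1 hx)) h]
    · obtain ⟨g, rfl⟩ := QuotientGroup.mk'_surjective Q x
      have h3 : (commutator Γ).map (QuotientGroup.mk' Q) ≤ commutator (Γ ⧸ Q) := by
        rw [commutator_def, commutator_def, Subgroup.map_commutator]
        exact Subgroup.commutator_mono le_top le_top
      exact h3 ⟨g, hd ((hker g).1 hx), rfl⟩
  have hb : σ.ker = ⊥ := h1 (Γ ⧸ Q) σ hst (by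
    let f : π.ker →* σ.ker :=
      { toFun := fun z => ⟨QuotientGroup.mk' Q z, (hker z).2 z.2⟩
        map_one' := Subtype.ext (map_one (QuotientGroup.mk' Q))
        map_mul' := fun a b => Subtype.ext (map_mul (QuotientGroup.mk' Q) _ _) }
    have hf : Function.Surjective f := fun x => by
      obtain ⟨g, hg⟩ := QuotientGroup.mk'_surjective Q x.1
      exact ⟨⟨g, (hker g).1 (hg ▸ x.2)⟩, Subtype.ext hg⟩
    have hfk : (P : Subgroup π.ker) = f.ker := by
      ext z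
      rw [MonoidHom.mem_ker, Subtype.ext_iff]
      show z ∈ (P : Subgroup π.ker) ↔ QuotientGroup.mk' Q (z : Γ) = 1
      rw [← MonoidHom.mem_ker, QuotientGroup.ker_mk', hQ]
      exact (Subgroup.mem_map_iff_mem (Subgroup.subtype_injective _) (K := (P : Subgroup π.ker))).symm
    rw [← Nat.card_congr (QuotientGroup.quotientKerEquivOfSurjective f hf).toEquiv, ← hfk]
    have : (P : Subgroup π.ker).Normal := ⟨fun x hx g => by
      rwa [show g * x = x * g from Subtype.ext (Subgroup.mem_center_iff.1 (hc x.2) g), mul_inv_cancel_right]⟩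
    rw [← Subgroup.index_eq_card]
    exact hp.out.coprime_iff_not_dvd.2 P.not_dvd_index)
  have hle : π.ker ≤ Q := fun g hg => by
    have := (hker g).2 hg
    rwa [hb, Subgroup.mem_bot, ← MonoidHom.mem_ker, QuotientGroup.ker_mk'] at this
  intro z
  obtain ⟨y, hy, e⟩ := (hQ ▸ hle) z.2
  obtain rfl : y = z := Subtype.ext e
  obtain ⟨k, hk⟩ := P.isPGroup' ⟨y, hy⟩
  exact ⟨k, congrArg Subtype.val hk⟩

end CfsgLib.Known.RootLift
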