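import Mathlib

/-!
# Canonical lifts of `p`-elements along central extensions with kernel prime to `p`
-/

set_option autoImplicit false

namespace CfsgLib.Known.RootLift

variable {Γ G : Type*} [Group Γ] [Group G] [Finite Γ] (π : Γ →* G) (p : ℕ)

/-- `π` is a central extension with kernel prime to `p` -/
structure CoprimeExt : Prop where
  surj : Function.Surjective π
  central : π.ker ≤ Subgroup.center Γ
  prime : p.Prime
  cop : p.Coprime (Nat.card π.ker)

/-- `g` is a `p`-element -/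
def IsPElt (g : G) : Prop := ∃ e : ℕ, g ^ p ^ e = 1

variable {π p}

theorem isPElt_of_mem {P : Subgroup G} (hP : IsPGroup p P) {g : G} (hg : g ∈ P) : IsPElt p g := by
  obtain ⟨e, he⟩ := hP ⟨g, hg⟩
  exact ⟨e, congrArg Subtype.val he⟩

theorem IsPElt.conj {g : G} (hg : IsPElt p g) (a : G) : IsPElt p (a * g * a⁻¹) := by
  obtain ⟨e, he⟩ := hg
  exact ⟨e, by rw [conj_pow, he, mul_one, mul_inv_cancel]⟩

theorem IsPElt.inv {g : G} (hg : IsPElt p g) : IsPElt p g⁻¹ := by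
  obtain ⟨e, he⟩ := hg
  exact ⟨e, by rw [inv_pow, he, inv_one]⟩

theorem isPElt_one : IsPElt p (1 : G) := ⟨0, one_pow _⟩

namespace CoprimeExt

variable (H : CoprimeExt π p)
include H

theorem coprime_orderOf {g : G} (hg : IsPElt p g) : (orderOf g).Coprime (Nat.card π.ker) := by
  obtain ⟨e, he⟩ := hg
  obtain ⟨k, -, hk⟩ := (Nat.dvd_prime_pow H.prime).1 (orderOf_dvd_of_pow_eq_one he)
  rw [hk]
  exact H.cop.pow_left k

theorem existsUnique_lift {g : G} (hg : IsPElt p g) : ∃! x : Γ, π x = g ∧ x ^ orderOf g = 1 := by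
  obtain ⟨n, hn⟩ : ∃ n, n = orderOf g := ⟨_, rfl⟩
  obtain ⟨N, hN⟩ : ∃ N, N = Nat.card π.ker := ⟨_, rfl⟩
  have hcop : n.Coprime N := hn ▸ hN ▸ H.coprime_orderOf hg
  obtain ⟨k, hk1, hk2⟩ := Nat.chineseRemainder hcop 1 0
  obtain ⟨y, hy⟩ := H.surj g
  have hker : ∀ z ∈ π.ker, z ^ N = 1 := fun z hz => by
    have := pow_card_eq_one' (x := (⟨z, hz⟩ : π.ker))
    rw [← hN] at this
    exact congrArg Subtype.val this
  have hgn : g ^ n = 1 := hn ▸ pow_orderOf_eq_one g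
  have hgk : g ^ k = g := by
    rw [← pow_mod_orderOf, ← hn, hk1, hn, pow_mod_orderOf, pow_one]
  refine ⟨y ^ k, ⟨by rw [map_pow, hy, hgk], ?_⟩, ?_⟩
  · obtain ⟨l, hl⟩ : N ∣ k := (Nat.modEq_zero_iff_dvd).1 hk2
    rw [← hn, ← pow_mul, mul_comm k n, hl, ← mul_assoc, pow_mul, pow_mul]
    rw [hker (y ^ n) (by rw [MonoidHom.mem_ker, map_pow, hy, hgn]), one_pow]
  · rintro x ⟨hx, hxn⟩
    rw [← hn] at hxn
    have hxk : x ^ k = x := by
      rw [pow_eq_pow_mod k hxn, hk1, ← pow_eq_pow_mod 1 hxn, pow_one]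
    have hz : y⁻¹ * x ∈ π.ker := by rw [MonoidHom.mem_ker, map_mul, map_inv, hy, hx, inv_mul_cancel]
    have hxy : x = y * (y⁻¹ * x) := by group
    conv_lhs => rw [← hxk, hxy]
    have hcm : Commute y (y⁻¹ * x) := Subgroup.mem_center_iff.1 (H.central hz) y
    rw [hcm.mul_pow]
    obtain ⟨l, hl⟩ : N ∣ k := (Nat.modEq_zero_iff_dvd).1 hk2
    rw [hl, pow_mul (y⁻¹ * x), hker _ hz, one_pow, mul_one]

open Classical in
/-- the lift of a `p`-element -/
noncomputable def L (g : G) : Γ := if h : IsPElt p g then (H.existsUnique_lift h).choose else 1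

theorem L_spec {g : G} (hg : IsPElt p g) : π (H.L g) = g ∧ H.L g ^ orderOf g = 1 := by
  rw [L, dif_pos hg]; exact (H.existsUnique_lift hg).choose_spec.1

theorem π_L {g : G} (hg : IsPElt p g) : π (H.L g) = g := (H.L_spec hg).1

theorem eq_L {g : G} (hg : IsPElt p g) {x : Γ} (hx : π x = g) (hx' : x ^ orderOf g = 1) : x = H.L g :=
  (H.existsUnique_lift hg).unique ⟨hx, hx'⟩ (H.L_spec hg)

theorem L_one : H.L 1 = 1 := (H.eq_L isPElt_one (map_one _) (one_pow _)).symm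

theorem conj_L {g : G} (hg : IsPElt p g) (a : Γ) : a * H.L g * a⁻¹ = H.L (π a * g * (π a)⁻¹) := by
  refine H.eq_L (hg.conj _) (by rw [map_mul, map_mul, map_inv, H.π_L hg]) ?_
  have ho : orderOf (π a * g * (π a)⁻¹) = orderOf g :=
    orderOf_injective (MulAut.conj (π a)).toMonoidHom (MulAut.conj (π a)).injective g
  rw [ho, conj_pow, (H.L_spec hg).2, mul_one, mul_inv_cancel]

theorem L_mul {P : Subgroup G} (hP : IsPGroup p P) {a b : G} (ha : a ∈ P) (hb : b ∈ P) :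
    H.L (a * b) = H.L a * H.L b := by
  let P' : Subgroup Γ := P.comap π
  have hP' : P' = P.comap π := rfl
  obtain ⟨Z, hZ⟩ : ∃ Z : Subgroup P', Z = π.ker.subgroupOf P' := ⟨_, rfl⟩
  have hle : π.ker ≤ P' := fun z hz => by rw [hP', Subgroup.mem_comap, MonoidHom.mem_ker.1 hz]; exact one_mem _
  have : Z.Normal := hZ ▸ Subgroup.Normal.subgroupOf inferInstance P'
  have : Fact p.Prime := ⟨H.prime⟩
  have : Finite G := Finite.of_surjective π H.surj
  let f : P' →* P := { toFun := fun x => ⟨π x, x.2⟩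
                       map_one' := Subtype.ext (map_one _)
                       map_mul' := fun x y => Subtype.ext (map_mul _ _ _) }
  have hf : Function.Surjective f := fun x => by
    obtain ⟨y, hy⟩ := H.surj (x : G)
    exact ⟨⟨y, show π y ∈ P by rw [hy]; exact x.2⟩, Subtype.ext hy⟩
  have hfk : f.ker = Z := by
    ext x; rw [hZ, MonoidHom.mem_ker, Subgroup.mem_subgroupOf, MonoidHom.mem_ker, Subtype.ext_iff]; rfl
  obtain ⟨n, hn⟩ := IsPGroup.iff_card.1 hP
  obtain ⟨C, hC⟩ := Subgroup.exists_left_complement'_of_coprime (N := Z) (by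
    have h1 : Nat.card Z = Nat.card π.ker := by
      rw [hZ]; exact Nat.card_congr (Subgroup.subgroupOfEquivOfLe hle).toEquiv
    rw [h1, ← hfk, Subgroup.index_ker, MonoidHom.range_eq_top.2 hf, Subgroup.card_top, hn]
    exact (H.cop.pow_left n).symm)
  have key : ∀ c ∈ C, H.L (π (c : P')) = ((c : P') : Γ) := fun c hc => by
    have hp : IsPElt p (π ((c : P') : Γ)) := isPElt_of_mem hP (f c).2
    refine (H.eq_L hp rfl ?_).symm
    have h1 : c ^ orderOf (π (c : Γ)) ∈ C ⊓ Z := by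
      refine ⟨pow_mem hc _, ?_⟩
      rw [← hfk]
      refine MonoidHom.mem_ker.2 ?_
      exact Subtype.ext (by rw [map_pow]; exact pow_orderOf_eq_one _)
    rw [hC.disjoint.eq_bot, Subgroup.mem_bot] at h1
    exact congrArg Subtype.val h1
  have hlift : ∀ g ∈ P, ∃ c ∈ C, π ((c : P') : Γ) = g := fun g hg => by
    obtain ⟨y, hy⟩ := hf ⟨g, hg⟩
    obtain ⟨⟨c, z⟩, hcz⟩ := hC.2 y
    refine ⟨c, c.2, ?_⟩
    have hz : f (z : P') = 1 := by rw [← MonoidHom.mem_ker, hfk]; exact z.2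
    have := congrArg f hcz
    simp only [map_mul, hz, mul_one, hy] at this
    exact congrArg Subtype.val this
  obtain ⟨c, hc, rfl⟩ := hlift a ha
  obtain ⟨d, hd, rfl⟩ := hlift b hb
  rw [key c hc, key d hd, ← map_mul, ← Subgroup.coe_mul, key _ (mul_mem hc hd)]

theorem L_inv {g : G} (hg : IsPElt p g) : H.L g⁻¹ = (H.L g)⁻¹ :=
  (H.eq_L hg.inv (by rw [map_inv, H.π_L hg]) (by rw [orderOf_inv, inv_pow, (H.L_spec hg).2, inv_one])).symm

/-- the lifts of a `p`-subgroup form a subgroup -/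
noncomputable def lift (P : Subgroup G) (hP : IsPGroup p P) : Subgroup Γ where
  carrier := {x | ∃ g ∈ P, x = H.L g}
  one_mem' := ⟨1, one_mem _, H.L_one.symm⟩
  mul_mem' := by
    rintro _ _ ⟨a, ha, rfl⟩ ⟨b, hb, rfl⟩
    exact ⟨a * b, mul_mem ha hb, (H.L_mul hP ha hb).symm⟩
  inv_mem' := by
    rintro _ ⟨a, ha, rfl⟩
    exact ⟨a⁻¹, inv_mem ha, (H.L_inv (isPElt_of_mem hP ha)).symm⟩

theorem mem_lift {P : Subgroup G} {hP : IsPGroup p P} {x : Γ} : x ∈ H.lift P hP ↔ ∃ g ∈ P, x = H.L g := Iff.rfl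

theorem L_mem_lift {P : Subgroup G} (hP : IsPGroup p P) {g : G} (hg : g ∈ P) : H.L g ∈ H.lift P hP :=
  ⟨g, hg, rfl⟩

theorem lift_ker {P : Subgroup G} (hP : IsPGroup p P) {x : Γ} (hx : x ∈ H.lift P hP) (h1 : π x = 1) : x = 1 := by
  obtain ⟨g, hg, rfl⟩ := hx
  rw [H.π_L (isPElt_of_mem hP hg)] at h1
  rw [h1, H.L_one]

end CoprimeExt

end CfsgLib.Known.RootLift
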