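import Cfsg.Agent.Lib.Known.RootLift.Coprime

/-!
# Root systems of subgroups and their lifts: monomial elements and tori
-/

set_option autoImplicit false
set_option linter.unusedSectionVars false

namespace CfsgLib.Known.RootLift

/-- combinatorial data of root subgroups over a positive unipotent subgroup -/
structure Sys (G F : Type*) [Group G] [Field F] (p : ℕ) (ι κ : Type*) where
  U : Subgroup G
  s : κ → Equiv.Perm ι
  s_sq : ∀ k a, s k (s k a) = a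
  pos : ι → Prop
  sim : κ → ι
  pos_sim : ∀ k, pos (sim k)
  R : ι → F → G
  N : ι → F → G
  R_add : ∀ a t u, R a t * R a u = R a (t + u)
  N_add : ∀ a t u, N a t * N a u = N a (t + u)
  R_mem : ∀ a t, pos a → R a t ∈ U
  N_mem : ∀ a t, ¬ pos a → N a t ∈ U
  N_not : ∀ a t, pos a → t ≠ 0 → N a t ∉ U
  conj_n : ∀ k c, c ≠ 0 → ∀ a, ∃ μ : F, μ ≠ 0 ∧
    (∀ t, R (sim k) c * N (sim k) (-c⁻¹) * R (sim k) c * R a t * (R (sim k) c * N (sim k) (-c⁻¹) * R (sim k) c)⁻¹ =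
      R (s k a) (μ * t)) ∧
    (∀ t, R (sim k) c * N (sim k) (-c⁻¹) * R (sim k) c * N a t * (R (sim k) c * N (sim k) (-c⁻¹) * R (sim k) c)⁻¹ =
      N (s k a) (t / μ))
  n_R : ∀ k c, c ≠ 0 → ∀ t,
    R (sim k) c * N (sim k) (-c⁻¹) * R (sim k) c * R (sim k) t * (R (sim k) c * N (sim k) (-c⁻¹) * R (sim k) c)⁻¹ =
      N (sim k) (-t / c ^ 2)
  flip : ∀ k a, pos a → ¬ pos (s k a) → ∃ ν : F, ν ≠ 0 ∧
    (∀ t, R a t = R (sim k) (ν * t)) ∧ (∀ t, N a t = N (sim k) (t / ν))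
  h_mul : ∀ k a b, a ≠ 0 → b ≠ 0 →
    R (sim k) a * N (sim k) (-a⁻¹) * R (sim k) a * (R (sim k) (-1) * N (sim k) 1 * R (sim k) (-1)) *
      (R (sim k) b * N (sim k) (-b⁻¹) * R (sim k) b * (R (sim k) (-1) * N (sim k) 1 * R (sim k) (-1))) =
    R (sim k) (a * b) * N (sim k) (-(a * b)⁻¹) * R (sim k) (a * b) *
      (R (sim k) (-1) * N (sim k) 1 * R (sim k) (-1))
  split : ∀ k, ∀ u ∈ U, ∃ t, ∀ c, c ≠ 0 →
    R (sim k) c * N (sim k) (-c⁻¹) * R (sim k) c * (u * R (sim k) t) *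
      (R (sim k) c * N (sim k) (-c⁻¹) * R (sim k) c)⁻¹ ∈ U

variable {Γ G F : Type*} [Group Γ] [Group G] [Finite Γ] [Field F] {ι κ : Type*} {π : Γ →* G} {p : ℕ}

namespace Sys

variable (S : Sys G F p ι κ) [CharP F p] (hU : IsPGroup p S.U) (H : CoprimeExt π p)

theorem R_zero (a : ι) : S.R a 0 = 1 := by
  have := S.R_add a 0 0
  rw [add_zero] at this
  exact mul_eq_left.1 this

theorem N_zero (a : ι) : S.N a 0 = 1 := by
  have := S.N_add a 0 0
  rw [add_zero] at this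
  exact mul_eq_left.1 this

/-- root elements of an additive family form a `p`-subgroup -/
def rootGp {G F : Type*} [Group G] [Field F] (f : F → G) (hf : ∀ t u, f t * f u = f (t + u)) : Subgroup G where
  carrier := Set.range f
  one_mem' := ⟨0, by have := hf 0 0; rw [add_zero] at this; exact mul_eq_left.1 this⟩
  mul_mem' := by rintro _ _ ⟨a, rfl⟩ ⟨b, rfl⟩; exact ⟨_, (hf a b).symm⟩
  inv_mem' := by
    rintro _ ⟨a, rfl⟩
    refine ⟨-a, eq_inv_of_mul_eq_one_left ?_⟩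
    rw [hf, neg_add_cancel]
    have := hf 0 0; rw [add_zero] at this; exact mul_eq_left.1 this

omit [Finite Γ] in
theorem rootGp_isPGroup {f : F → G} (hf : ∀ t u, f t * f u = f (t + u)) : IsPGroup p (rootGp f hf) := by
  rintro ⟨_, t, rfl⟩
  refine ⟨1, Subtype.ext ?_⟩
  have h0 : f 0 = 1 := by have := hf 0 0; rw [add_zero] at this; exact mul_eq_left.1 this
  have : ∀ n : ℕ, f t ^ n = f (n * t) := fun n => by
    induction n with
    | zero => simp [h0]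
    | succ n ih => rw [pow_succ, ih, hf]; congr 1; push_cast; ring
  simp [this, h0]

theorem R_pelt (a : ι) (t : F) : IsPElt p (S.R a t) := isPElt_of_mem (rootGp_isPGroup (S.R_add a)) ⟨t, rfl⟩

theorem N_pelt (a : ι) (t : F) : IsPElt p (S.N a t) := isPElt_of_mem (rootGp_isPGroup (S.N_add a)) ⟨t, rfl⟩

/-- lifted root element -/
noncomputable def rx (a : ι) (t : F) : Γ := H.L (S.R a t)

/-- lifted negative root element -/
noncomputable def ry (a : ι) (t : F) : Γ := H.L (S.N a t)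

theorem rx_add (a : ι) (t u : F) : S.rx H a t * S.rx H a u = S.rx H a (t + u) := by
  rw [rx, rx, rx, ← H.L_mul (rootGp_isPGroup (S.R_add a)) ⟨t, rfl⟩ ⟨u, rfl⟩, S.R_add]

theorem ry_add (a : ι) (t u : F) : S.ry H a t * S.ry H a u = S.ry H a (t + u) := by
  rw [ry, ry, ry, ← H.L_mul (rootGp_isPGroup (S.N_add a)) ⟨t, rfl⟩ ⟨u, rfl⟩, S.N_add]

theorem rx_zero (a : ι) : S.rx H a 0 = 1 := by rw [rx, S.R_zero, H.L_one]

theorem ry_zero (a : ι) : S.ry H a 0 = 1 := by rw [ry, S.N_zero, H.L_one]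

theorem rx_neg (a : ι) (t : F) : S.rx H a (-t) = (S.rx H a t)⁻¹ := by
  rw [eq_inv_iff_mul_eq_one, S.rx_add, neg_add_cancel, S.rx_zero]

theorem ry_neg (a : ι) (t : F) : S.ry H a (-t) = (S.ry H a t)⁻¹ := by
  rw [eq_inv_iff_mul_eq_one, S.ry_add, neg_add_cancel, S.ry_zero]

theorem π_rx (a : ι) (t : F) : π (S.rx H a t) = S.R a t := H.π_L (S.R_pelt a t)

theorem π_ry (a : ι) (t : F) : π (S.ry H a t) = S.N a t := H.π_L (S.N_pelt a t)

theorem conj_rx (g : Γ) (a : ι) (t : F) : g * S.rx H a t * g⁻¹ = H.L (π g * S.R a t * (π g)⁻¹) :=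
  H.conj_L (S.R_pelt a t) g

theorem conj_ry (g : Γ) (a : ι) (t : F) : g * S.ry H a t * g⁻¹ = H.L (π g * S.N a t * (π g)⁻¹) :=
  H.conj_L (S.N_pelt a t) g

/-- lifted Weyl element -/
noncomputable def nn (k : κ) (c : F) : Γ :=
  S.rx H (S.sim k) c * S.ry H (S.sim k) (-c⁻¹) * S.rx H (S.sim k) c

/-- lifted torus element -/
noncomputable def hh (k : κ) (c : F) : Γ := S.nn H k c * S.nn H k (-1)

theorem π_nn (k : κ) (c : F) : π (S.nn H k c) = S.R (S.sim k) c * S.N (S.sim k) (-c⁻¹) * S.R (S.sim k) c := by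
  rw [nn, map_mul, map_mul, S.π_rx, S.π_ry]

theorem nn_neg (k : κ) (c : F) : S.nn H k (-c) = (S.nn H k c)⁻¹ := by
  rw [nn, nn, inv_neg, neg_neg, S.rx_neg, S.ry_neg]
  group

theorem hh_one (k : κ) : S.hh H k 1 = 1 := by rw [hh, S.nn_neg, mul_inv_cancel]

theorem nn_eq (k : κ) (c : F) : S.nn H k c = S.hh H k c * S.nn H k 1 := by
  rw [hh, S.nn_neg, inv_mul_cancel_right]

theorem hh_inv (k : κ) (c : F) : (S.hh H k c)⁻¹ = S.nn H k 1 * S.nn H k (-c) := by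
  rw [hh, mul_inv_rev, S.nn_neg, S.nn_neg, inv_inv]

/-- monomial elements -/
def Mon (g : Γ) (e : Equiv.Perm ι) : Prop :=
  ∀ a, ∃ μ : F, μ ≠ 0 ∧ (∀ t, g * S.rx H a t * g⁻¹ = S.rx H (e a) (μ * t)) ∧
    (∀ t, g * S.ry H a t * g⁻¹ = S.ry H (e a) (t / μ))

omit [CharP F p] in
theorem mon_one : S.Mon H 1 1 := fun a => ⟨1, one_ne_zero, fun t => by simp, fun t => by simp⟩

omit [CharP F p] in
theorem Mon.mul {g g' : Γ} {e e' : Equiv.Perm ι} (h : S.Mon H g e) (h' : S.Mon H g' e') :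
    S.Mon H (g * g') (e * e') := fun a => by
  obtain ⟨μ', hμ', a1, a2⟩ := h' a
  obtain ⟨μ, hμ, b1, b2⟩ := h (e' a)
  refine ⟨μ * μ', mul_ne_zero hμ hμ', fun t => ?_, fun t => ?_⟩
  · rw [show g * g' * S.rx H a t * (g * g')⁻¹ = g * (g' * S.rx H a t * g'⁻¹) * g⁻¹ by group, a1, b1,
      Equiv.Perm.mul_apply, mul_assoc]
  · rw [show g * g' * S.ry H a t * (g * g')⁻¹ = g * (g' * S.ry H a t * g'⁻¹) * g⁻¹ by group, a2, b2,
      Equiv.Perm.mul_apply, div_div, mul_comm μ]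

omit [CharP F p] in
theorem Mon.inv {g : Γ} {e : Equiv.Perm ι} (h : S.Mon H g e) : S.Mon H g⁻¹ e⁻¹ := fun a => by
  obtain ⟨μ, hμ, a1, a2⟩ := h (e⁻¹ a)
  rw [← Equiv.Perm.mul_apply, mul_inv_cancel, Equiv.Perm.one_apply] at a1 a2
  refine ⟨μ⁻¹, inv_ne_zero hμ, fun t => ?_, fun t => ?_⟩
  · have := a1 (μ⁻¹ * t)
    rw [mul_inv_cancel_left₀ hμ] at this
    rw [← this]
    group
  · have := a2 (t / μ⁻¹)
    rw [show t / μ⁻¹ / μ = t by field_simp] at this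
    rw [← this]
    group

theorem mon_nn (k : κ) {c : F} (hc : c ≠ 0) : S.Mon H (S.nn H k c) (S.s k) := fun a => by
  obtain ⟨μ, hμ, h1, h2⟩ := S.conj_n k c hc a
  refine ⟨μ, hμ, fun t => ?_, fun t => ?_⟩
  · rw [S.conj_rx, S.π_nn, h1]; rfl
  · rw [S.conj_ry, S.π_nn, h2]; rfl

theorem mon_hh (k : κ) {c : F} (hc : c ≠ 0) : S.Mon H (S.hh H k c) 1 := by
  have h := Mon.mul S H (S.mon_nn H k hc) (S.mon_nn H k (neg_ne_zero.2 one_ne_zero))
  rwa [show S.s k * S.s k = 1 from Equiv.ext fun a => S.s_sq k a] at h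

theorem nn_rx (k : κ) {c : F} (hc : c ≠ 0) (t : F) :
    S.nn H k c * S.rx H (S.sim k) t * (S.nn H k c)⁻¹ = S.ry H (S.sim k) (-t / c ^ 2) := by
  rw [S.conj_rx, S.π_nn, S.n_R k c hc]; rfl

theorem nn_ry (k : κ) {c : F} (hc : c ≠ 0) (t : F) :
    S.nn H k c * S.ry H (S.sim k) t * (S.nn H k c)⁻¹ = S.rx H (S.sim k) (-(c ^ 2) * t) := by
  have h := S.nn_rx H k (neg_ne_zero.2 hc) (-(c ^ 2) * t)
  rw [show -(-(c ^ 2) * t) / (-c) ^ 2 = t by field_simp, S.nn_neg, inv_inv] at h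
  rw [← h]
  group

theorem nn_alt (k : κ) {c : F} (hc : c ≠ 0) :
    S.nn H k c = S.ry H (S.sim k) (-c⁻¹) * S.rx H (S.sim k) c * S.ry H (S.sim k) (-c⁻¹) := by
  have h := S.nn_rx H k hc c
  rw [show -c / c ^ 2 = -c⁻¹ by field_simp] at h
  obtain ⟨X, hX⟩ : ∃ X, X = S.rx H (S.sim k) c := ⟨_, rfl⟩
  obtain ⟨Y, hY⟩ : ∃ Y, Y = S.ry H (S.sim k) (-c⁻¹) := ⟨_, rfl⟩
  simp only [nn, ← hX, ← hY] at h ⊢
  have h1 : X * Y * X * X = Y * (X * Y * X) := mul_inv_eq_iff_eq_mul.1 h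
  exact mul_right_cancel (b := X) (by rw [h1]; group)

theorem hh_rx (k : κ) {c : F} (hc : c ≠ 0) (t : F) :
    S.hh H k c * S.rx H (S.sim k) t * (S.hh H k c)⁻¹ = S.rx H (S.sim k) (c ^ 2 * t) := by
  rw [hh, show S.nn H k c * S.nn H k (-1) * S.rx H (S.sim k) t * (S.nn H k c * S.nn H k (-1))⁻¹ =
    S.nn H k c * (S.nn H k (-1) * S.rx H (S.sim k) t * (S.nn H k (-1))⁻¹) * (S.nn H k c)⁻¹ by group,
    S.nn_rx H k (neg_ne_zero.2 one_ne_zero), S.nn_ry H k hc]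
  congr 1; ring

theorem hh_ry (k : κ) {c : F} (hc : c ≠ 0) (t : F) :
    S.hh H k c * S.ry H (S.sim k) t * (S.hh H k c)⁻¹ = S.ry H (S.sim k) (t / c ^ 2) := by
  rw [hh, show S.nn H k c * S.nn H k (-1) * S.ry H (S.sim k) t * (S.nn H k c * S.nn H k (-1))⁻¹ =
    S.nn H k c * (S.nn H k (-1) * S.ry H (S.sim k) t * (S.nn H k (-1))⁻¹) * (S.nn H k c)⁻¹ by group,
    S.nn_ry H k (neg_ne_zero.2 one_ne_zero), S.nn_rx H k hc]
  congr 1; ring

theorem mon_one_nn {g : Γ} (hg : S.Mon H g 1) (k : κ) :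
    ∃ μ : F, μ ≠ 0 ∧ ∀ c, g * S.nn H k c * g⁻¹ = S.nn H k (μ * c) := by
  obtain ⟨μ, hμ, h1, h2⟩ := hg (S.sim k)
  refine ⟨μ, hμ, fun c => ?_⟩
  rw [nn, show g * (S.rx H (S.sim k) c * S.ry H (S.sim k) (-c⁻¹) * S.rx H (S.sim k) c) * g⁻¹ =
    (g * S.rx H (S.sim k) c * g⁻¹) * (g * S.ry H (S.sim k) (-c⁻¹) * g⁻¹) * (g * S.rx H (S.sim k) c * g⁻¹) by group,
    h1, h2, nn, Equiv.Perm.one_apply]
  rw [show -c⁻¹ / μ = -(μ * c)⁻¹ by rw [mul_inv, div_eq_mul_inv]; ring]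

theorem hh_conj_nn (k : κ) {x : F} (hx : x ≠ 0) (c : F) :
    S.hh H k x * S.nn H k c * (S.hh H k x)⁻¹ = S.nn H k (x ^ 2 * c) := by
  rw [nn, show S.hh H k x * (S.rx H (S.sim k) c * S.ry H (S.sim k) (-c⁻¹) * S.rx H (S.sim k) c) * (S.hh H k x)⁻¹ =
    (S.hh H k x * S.rx H (S.sim k) c * (S.hh H k x)⁻¹) * (S.hh H k x * S.ry H (S.sim k) (-c⁻¹) * (S.hh H k x)⁻¹) *
      (S.hh H k x * S.rx H (S.sim k) c * (S.hh H k x)⁻¹) by group,
    S.hh_rx H k hx, S.hh_ry H k hx, nn]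
  rw [show -c⁻¹ / x ^ 2 = -(x ^ 2 * c)⁻¹ by rw [mul_inv, div_eq_mul_inv]; ring]

/-- Steinberg's identity -/
theorem hh_symbol (k : κ) {u : F} (hu : u ≠ 0) (hu' : 1 - u ≠ 0) :
    S.hh H k u * S.hh H k (1 - u) = S.hh H k (u * (1 - u)) := by
  obtain ⟨X, hXd⟩ : ∃ X, X = S.rx H (S.sim k) := ⟨_, rfl⟩
  obtain ⟨Y, hYd⟩ : ∃ Y, Y = S.ry H (S.sim k) := ⟨_, rfl⟩
  have hP : ∀ a b, X a * X b = X (a + b) := fun a b => hXd ▸ S.rx_add H _ a b
  have hM : ∀ a b, Y a * Y b = Y (a + b) := fun a b => hYd ▸ S.ry_add H _ a b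
  have hw : ∀ c, S.nn H k c = X c * Y (-c⁻¹) * X c := fun c => by rw [nn, hXd, hYd]
  have hnP : ∀ c, c ≠ 0 → ∀ t, S.nn H k c * X t = Y (-t / c ^ 2) * S.nn H k c := fun c hc t => by
    rw [← mul_inv_eq_iff_eq_mul, hXd, hYd, S.nn_rx H k hc]
  have hnM : ∀ c, c ≠ 0 → ∀ t, S.nn H k c * Y t = X (-(c ^ 2) * t) * S.nn H k c := fun c hc t => by
    rw [← mul_inv_eq_iff_eq_mul, hXd, hYd, S.nn_ry H k hc]
  have hXn : ∀ t, X (-t) = (X t)⁻¹ := fun t => hXd ▸ S.rx_neg H _ t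
  have hYn : ∀ t, Y (-t) = (Y t)⁻¹ := fun t => hYd ▸ S.ry_neg H _ t
  obtain ⟨v, hv⟩ : ∃ v, v = 1 - u := ⟨_, rfl⟩
  rw [← hv] at hu' ⊢
  have hyxy : S.nn H k (-v) = Y (1 / v) * X (-v) * Y (1 / v) := by
    rw [S.nn_alt H k (neg_ne_zero.2 hu'), ← hXd, ← hYd]; simp
  have key : S.hh H k u = S.nn H k (u * v) * S.nn H k (-v) := by
    have hmid : X (-v) = Y (-(1 / v)) * S.nn H k (-v) * Y (-(1 / v)) := by
      rw [hYn, hyxy]; group
    calc S.hh H k u
        = X u * Y (-u⁻¹) * (X u * X (-1)) * Y 1 * X (-1) := by simp [hh, hw, mul_assoc]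
      _ = X u * (Y (-u⁻¹) * Y (-(1 / v))) * S.nn H k (-v) * (Y (-(1 / v)) * Y 1) * X (-1) := by
        rw [hP, show u + -1 = -v by rw [hv]; ring, hmid]; group
      _ = X u * Y (-(u * v)⁻¹) * (S.nn H k (-v) * Y (-u / v)) * X (-1) := by
        rw [hM, hM, show -u⁻¹ + -(1 / v) = -(u * v)⁻¹ by field_simp; linear_combination -hv,
          show -(1 / v) + 1 = -u / v by field_simp; linear_combination hv]
        group
      _ = X u * Y (-(u * v)⁻¹) * X (u * v) * (S.nn H k (-v) * X (-1)) := by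
        rw [hnM _ (neg_ne_zero.2 hu'), show -((-v) ^ 2) * (-u / v) = u * v by field_simp]
        group
      _ = X (u + -(u * v)) * S.nn H k (u * v) * Y (1 / v ^ 2) * S.nn H k (-v) := by
        rw [hnP _ (neg_ne_zero.2 hu'), neg_neg, neg_sq, ← hP, hXn, hw (u * v)]
        group
      _ = X (u + -(u * v)) * (X (-(u * v) ^ 2 * (1 / v ^ 2)) * S.nn H k (u * v)) * S.nn H k (-v) := by
        rw [← hnM _ (mul_ne_zero hu hu')]
        group
      _ = X 0 * S.nn H k (u * v) * S.nn H k (-v) := by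
        rw [← mul_assoc (X (u + -(u * v))), hP]
        congr 3
        field_simp
        linear_combination (-u) * hv
      _ = _ := by rw [hXd, S.rx_zero H, one_mul]
  rw [key]
  unfold hh
  rw [S.nn_neg H k v, S.nn_neg H k 1]
  group

/-- over a finite field the torus elements are multiplicative -/
theorem hh_mul [Finite F] (k : κ) {a b : F} (ha : a ≠ 0) (hb : b ≠ 0) :
    S.hh H k a * S.hh H k b = S.hh H k (a * b) := by
  obtain ⟨h, hh'⟩ : ∃ h : Fˣ → Γ, h = fun x : Fˣ => S.hh H k (x : F) := ⟨_, rfl⟩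
  suffices ∀ x y : Fˣ, h x * h y = h (x * y) by
    simpa [hh'] using this (Units.mk0 a ha) (Units.mk0 b hb)
  have hz' : ∀ x y : Fˣ, ∃ z ∈ Subgroup.center Γ, h (x * y) = z * (h x * h y) := fun x y => by
    refine ⟨h (x * y) * (h x * h y)⁻¹, H.central ?_, by group⟩
    simp only [MonoidHom.mem_ker, map_mul, map_inv, hh', hh, π_nn, Units.val_mul, inv_neg, inv_one, neg_neg]
    rw [S.h_mul k _ _ x.ne_zero y.ne_zero, mul_inv_cancel]
  obtain ⟨g, hg⟩ := IsCyclic.exists_generator (α := Fˣ)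
  have hg' : ∀ x : Fˣ, ∃ m : ℕ, g ^ m = x := fun x => mem_powers_iff_mem_zpowers.2 (hg x)
  have hpow : ∀ m : ℕ, ∃ z ∈ Subgroup.center Γ, h (g ^ m) = z * h g ^ m := by
    intro m
    induction m with
    | zero => exact ⟨1, one_mem _, by simp [hh', S.hh_one]⟩
    | succ m ih =>
      obtain ⟨z, hz1, e⟩ := ih
      obtain ⟨z', hz2, e'⟩ := hz' (g ^ m) g
      exact ⟨z' * z, mul_mem hz2 hz1, by rw [pow_succ, e', e, pow_succ, mul_assoc, mul_assoc]⟩
  have hcomm : ∀ x y : Fˣ, h x * h y = h y * h x := by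
    intro x y
    obtain ⟨m, rfl⟩ := hg' x
    obtain ⟨n, rfl⟩ := hg' y
    obtain ⟨z, hz1, e⟩ := hpow m
    obtain ⟨w', hw1, e'⟩ := hpow n
    have cz : Commute z (w' * h g ^ n) := (Subgroup.mem_center_iff.1 hz1 _).symm
    have cw : Commute (h g ^ m) w' := Subgroup.mem_center_iff.1 hw1 _
    rw [e, e']
    exact (cz.mul_left (cw.mul_right ((Commute.refl (h g)).pow_pow m n))).eq
  have hsq : ∀ x y : Fˣ, h (x * x * y) = h y * h (x * x) := by
    intro x y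
    have e4 : h y = h (x * x * y) * (h (x * x))⁻¹ := by
      have := hcomm x y
      rw [← mul_inv_eq_iff_eq_mul] at this
      rw [← this]
      simp only [hh', Units.val_mul]
      rw [show S.hh H k x * S.hh H k y * (S.hh H k x)⁻¹ =
        (S.hh H k x * S.nn H k y * (S.hh H k x)⁻¹) * (S.hh H k x * S.nn H k (-1) * (S.hh H k x)⁻¹) by
          rw [show S.hh H k (y : F) = S.nn H k y * S.nn H k (-1) from rfl]; group,
        S.hh_conj_nn H k x.ne_zero, S.hh_conj_nn H k x.ne_zero, S.hh_inv]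
      simp only [hh, pow_two, mul_neg, mul_one, S.nn_neg H k 1]
      group
    rw [e4, inv_mul_cancel_right]
  have hsq1 : ∀ x y : Fˣ, IsSquare x → h x * h y = h (x * y) := by
    rintro _ y ⟨x, rfl⟩; rw [hsq, hcomm]
  by_cases hall : ∀ x : Fˣ, IsSquare x
  · exact fun x y => hsq1 x y (hall x)
  simp only [not_forall] at hall
  obtain ⟨e, he⟩ := hall
  have hns : ∀ x y : Fˣ, ¬ IsSquare x → ¬ IsSquare y → IsSquare (x * y⁻¹) := by
    intro x y hx hy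
    obtain ⟨m, rfl⟩ := hg' x
    obtain ⟨n, rfl⟩ := hg' y
    have hm : ¬ Even m := fun ⟨k, hk⟩ => hx ⟨g ^ k, by rw [hk, pow_add]⟩
    have hn : ¬ Even n := fun ⟨k, hk⟩ => hy ⟨g ^ k, by rw [hk, pow_add]⟩
    obtain ⟨k, hk⟩ : Even ((m : ℤ) - n) := by
      rw [Int.even_sub, Int.even_coe_nat, Int.even_coe_nat]; tauto
    exact ⟨g ^ k, by rw [← zpow_add, ← hk, zpow_sub, zpow_natCast, zpow_natCast]⟩
  obtain ⟨u, v, huu, hvv, huv⟩ : ∃ u v : Fˣ, ¬ IsSquare u ∧ ¬ IsSquare v ∧ (u : F) + v = 1 := by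
    by_contra hne
    simp only [not_exists, not_and] at hne
    have h0 : ∀ u : {u : Fˣ // ¬ IsSquare u}, 1 - (u.1 : F) ≠ 0 := by
      rintro ⟨u, hu⟩ h'
      exact hu ⟨1, Units.ext (by simpa using (sub_eq_zero.1 h').symm)⟩
    have h1 : ∀ u : {u : Fˣ // ¬ IsSquare u}, IsSquare (Units.mk0 _ (h0 u)) := fun u =>
      not_not.1 fun h' => hne u.1 _ u.2 h' (by simp)
    let φ : {u : Fˣ // ¬ IsSquare u} → {u : Fˣ // IsSquare u} := fun u => ⟨_, h1 u⟩
    have hφ : Function.Injective φ := fun a b hab => by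
      have : (1 : F) - (a.1 : F) = 1 - (b.1 : F) := congrArg (fun z : {u : Fˣ // IsSquare u} => (z.1 : F)) hab
      exact Subtype.ext (Units.ext (sub_right_injective this))
    have hcard : Nat.card {u : Fˣ // IsSquare u} = Nat.card {u : Fˣ // ¬ IsSquare u} := by
      refine Nat.card_congr (Equiv.subtypeEquiv (Equiv.mulRight e) fun x => ?_)
      simp only [Equiv.coe_mulRight]
      constructor
      · rintro hx hxe
        exact he (by simpa using hx.inv.mul hxe)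
      · intro hxe
        by_contra hx
        exact hxe (by
          obtain ⟨k, hk⟩ := hns x e hx he
          exact ⟨k * e, by rw [mul_mul_mul_comm, ← hk]; group⟩)
    have hb := (hφ.bijective_of_nat_card_le hcard.le).2 ⟨1, IsSquare.one⟩
    obtain ⟨u, hu⟩ := hb
    have : (1 : F) - (u.1 : F) = 1 := congrArg (fun z : {u : Fˣ // IsSquare u} => (z.1 : F)) hu
    exact u.1.ne_zero (sub_eq_self.1 this)
  have huv' : h u * h v = h (u * v) := by
    simp only [hh', Units.val_mul]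
    rw [show (v : F) = 1 - u by linear_combination huv]
    refine S.hh_symbol H k u.ne_zero ?_
    rw [show (1 : F) - u = v by linear_combination -huv]
    exact v.ne_zero
  intro x y
  by_cases hx : IsSquare x
  · exact hsq1 x y hx
  by_cases hy : IsSquare y
  · rw [hcomm, mul_comm]; exact hsq1 y x hy
  have hxu := hns x u hx huu
  have hyv := hns y v hy hvv
  have ex := hsq1 _ u hxu
  have ey := hsq1 _ v hyv
  rw [inv_mul_cancel_right] at ex ey
  have e : x * y = x * u⁻¹ * (y * v⁻¹) * (u * v) := by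
    rw [mul_mul_mul_comm, inv_mul_cancel_right, inv_mul_cancel_right]
  rw [← ex, ← ey, e, ← hsq1 _ _ (hxu.mul hyv), ← hsq1 _ _ hxu, ← huv']
  rw [← mul_assoc, mul_assoc (h (x * u⁻¹)) (h u), hcomm u]
  group

/-- elements with trivial permutation centralise the torus -/
theorem commute_hh [Finite F] {g : Γ} (hg : S.Mon H g 1) (k : κ) {c : F} (hc : c ≠ 0) :
    Commute g (S.hh H k c) := by
  obtain ⟨μ, hμ, h⟩ := S.mon_one_nn H hg k
  rw [commute_iff_eq, ← mul_inv_eq_iff_eq_mul]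
  have e : g * S.hh H k c * g⁻¹ = S.nn H k (μ * c) * S.nn H k (μ * -1) := by
    rw [← h, ← h, hh]; group
  rw [e, show S.nn H k (μ * c) * S.nn H k (μ * -1) = S.hh H k (c * μ) * (S.hh H k μ)⁻¹ by
    rw [S.hh_inv, hh, mul_comm μ c, mul_neg_one, mul_assoc, ← mul_assoc (S.nn H k (-1)), S.nn_neg H k 1,
      inv_mul_cancel, one_mul], ← S.hh_mul H k hc hμ, mul_inv_cancel_right]

end Sys

end CfsgLib.Known.RootLift
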